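import Groth.Agent.H9Misc.DRingTorRestrict
import Groth.Agent.H9Misc.DRingRestrict
import Groth.Agent.WEtLib.Basic

/-! tor amplitude along weakly etale maps -/

set_option linter.style.haveILetI false
set_option backward.isDefEq.respectTransparency.types false

universe u

open CategoryTheory CategoryTheory.Category CategoryTheory.Limits MonoidalCategory
open CategoryTheory.Pretriangulated

attribute [local instance] HasDerivedCategory.standard

namespace Groth.Agent.TorAmpWE

open Groth.Agent Groth.Agent.H9Misc Groth.Agent.H9Misc.DRingTor Groth.Agent.KFlatLib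

/-- A bounded above flat complex, exact below `a` with flat opcycles at `a`, has tor amplitude in `[a, b]`. -/
theorem hasTorAmp_of_truncation {A : Type u} [CommRing A] {a b : ℤ} {R : CochainComplex (ModuleCat.{u} A) ℤ}
    (hflat : DRing.TermwiseFlat R) (hRb : DRing.VanishesAbove R b) (hge : ∀ i, i < a → R.ExactAt i)
    [Module.Flat A (R.opcycles a)] {K : Dual.D A} (e : DerivedCategory.Q.obj R ≅ K) :
    DRing.HasTorAmplitudeIn A a b K := by
  let emb := ComplexShape.embeddingUpIntGE a
  haveI : R.IsGE a := (CochainComplex.isGE_iff R a).2 hge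
  refine ⟨R.truncGE a, fun i hi => ?_, fun i => ?_,
    ⟨(asIso (DerivedCategory.Q.map (R.πTruncGE a))).symm ≪≫ e⟩⟩
  · rcases hi with hi | hi
    · exact CochainComplex.isZero_of_isStrictlyGE _ a i hi
    · rcases lt_or_ge i a with hia | hia
      · exact CochainComplex.isZero_of_isStrictlyGE _ a i hia
      obtain ⟨n, rfl⟩ : ∃ n : ℕ, a + n = i := ⟨(i - a).toNat, by omega⟩
      rcases Nat.eq_zero_or_pos n with rfl | hn
      · refine IsZero.of_iso ?_ (HomologicalComplex.truncGEXIsoOpcycles R emb (i := 0) rfl
          ((ComplexShape.boundaryGE_embeddingUpIntGE_iff a 0).2 rfl))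
        exact IsZero.of_epi (R.pOpcycles (a + (0 : ℕ))) (hRb _ hi)
      · exact (hRb _ hi).of_iso (HomologicalComplex.truncGEXIso R emb (i := n) rfl
          (fun hb => by have := (ComplexShape.boundaryGE_embeddingUpIntGE_iff a n).1 hb; omega))
  · rcases lt_or_ge i a with hia | hia
    · haveI := ModuleCat.subsingleton_of_isZero (CochainComplex.isZero_of_isStrictlyGE (R.truncGE a) a i hia)
      infer_instance
    obtain ⟨n, rfl⟩ : ∃ n : ℕ, a + n = i := ⟨(i - a).toNat, by omega⟩
    rcases Nat.eq_zero_or_pos n with rfl | hn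
    · have hf : Module.Flat A (R.opcycles (a + (0 : ℕ))) := by
        rw [Nat.cast_zero, add_zero]; assumption
      exact (Module.Flat.equiv_iff (HomologicalComplex.truncGEXIsoOpcycles R emb (i := 0) rfl
        ((ComplexShape.boundaryGE_embeddingUpIntGE_iff a 0).2 rfl)).toLinearEquiv).2 hf
    · exact (Module.Flat.equiv_iff (HomologicalComplex.truncGEXIso R emb (i := n) rfl
        (fun hb => by have := (ComplexShape.boundaryGE_embeddingUpIntGE_iff a n).1 hb; omega)).toLinearEquiv).2
          (hflat _)

theorem hasTorAmp_restrict_of_flat {A B : Type u} [CommRing A] [CommRing B] [Algebra A B] [Module.Flat A B]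
    {a b : ℤ} {K : Dual.D B} (h : DRing.HasTorAmplitudeIn B a b K) :
    DRing.HasTorAmplitudeIn A a b ((DRing.restrictD (algebraMap A B)).obj K) := by
  obtain ⟨E, hz, hf, ⟨e⟩⟩ := h
  refine ⟨((ModuleCat.restrictScalars (algebraMap A B)).mapHomologicalComplex _).obj E,
    fun i hi => (ModuleCat.restrictScalars (algebraMap A B)).map_isZero (hz i hi), fun i => ?_,
    ⟨((ModuleCat.restrictScalars (algebraMap A B)).mapDerivedCategoryFactors.app E).symm
      ≪≫ (DRing.restrictD (algebraMap A B)).mapIso e⟩⟩
  letI : Module A (E.X i) := Module.compHom _ (algebraMap A B)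
  haveI : IsScalarTower A B (E.X i) := IsScalarTower.of_algebraMap_smul fun _ _ => rfl
  haveI := hf i
  exact Module.Flat.trans A B (E.X i)

theorem hasTorAmp_of_restrict {A B : Type u} [CommRing A] [CommRing B] [Algebra A B] [Algebra.WeaklyEtale A B]
    {a b : ℤ} {K : Dual.D B} (h : DRing.HasTorAmplitudeIn A a b ((DRing.restrictD (algebraMap A B)).obj K)) :
    DRing.HasTorAmplitudeIn B a b K := by
  let res := ModuleCat.restrictScalars.{u} (algebraMap A B)
  obtain ⟨E, hzE, hfE, ⟨eE⟩⟩ := h
  obtain ⟨P, -, -, ⟨eP⟩⟩ := DRingLTensor.exists_rep K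
  have hiff : ∀ (S : CochainComplex (ModuleCat.{u} B) ℤ) (_ : DerivedCategory.Q.obj S ≅ K) (i : ℤ),
      (i < a ∨ b < i) → S.ExactAt i := fun S eS i hi => by
    rw [HomologicalComplex.exactAt_iff_isZero_homology]
    refine IsZero.of_iso ?_ (((DerivedCategory.homologyFunctorFactors (ModuleCat.{u} B) i).app S).symm ≪≫
      (DerivedCategory.homologyFunctor (ModuleCat.{u} B) i).mapIso eS)
    have h0 : IsZero ((DerivedCategory.homologyFunctor (ModuleCat.{u} A) i).obj
        ((DRing.restrictD (algebraMap A B)).obj K)) := by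
      refine IsZero.of_iso (ShortComplex.isZero_homology_of_isZero_X₂ (E.sc i) (hzE i hi))
        ((DerivedCategory.homologyFunctor (ModuleCat.{u} A) i).mapIso eE.symm ≪≫
          (DerivedCategory.homologyFunctorFactors (ModuleCat.{u} A) i).app E)
    have h1 := h0.of_iso (DRingRestrict.HDRestrictIso (algebraMap A B) K i).symm
    exact ModuleCat.isZero_iff_subsingleton.2 (ModuleCat.subsingleton_of_isZero h1 :)
  obtain ⟨R, ψ, hψ, hflat, hRb⟩ := (ringCover B).exists_bounded_resolution P b
    fun m hm => (HomologicalComplex.exactAt_iff_isZero_homology _ m).1 (hiff P eP m (Or.inr hm))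
  haveI := hψ
  haveI : IsIso (DerivedCategory.Q.map ψ) := (DerivedCategory.isIso_Q_map_iff_quasiIso _ _).2 inferInstance
  let eR : DerivedCategory.Q.obj R ≅ K := asIso (DerivedCategory.Q.map ψ) ≪≫ eP
  let RA := (res.mapHomologicalComplex (ComplexShape.up ℤ)).obj R
  have hflatA : DRing.TermwiseFlat RA := fun i => by
    letI : Module A (R.X i) := Module.compHom _ (algebraMap A B)
    haveI : IsScalarTower A B (R.X i) := IsScalarTower.of_algebraMap_smul fun _ _ => rfl
    haveI := hflat i
    exact @Module.Flat.trans A B (R.X i) _ _ _ _ _ _ _ inferInstance (hflat i)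
  have hvan : Van a b RA := (iff_van (isKF_of_flat hflatA fun i hi => res.map_isZero (hRb i hi))
    ((res.mapDerivedCategoryFactors.app R).symm ≪≫ (DRing.restrictD (algebraMap A B)).mapIso eR)).1
    ⟨E, hzE, hfE, ⟨eE⟩⟩
  haveI : Module.Flat B (R.opcycles a) := by
    have hq : Module.Flat B ((R.X a) ⧸ LinearMap.range (R.d (a - 1) a).hom) := by
      letI : Module A (R.X a) := Module.compHom _ (algebraMap A B)
      haveI : IsScalarTower A B (R.X a) := IsScalarTower.of_algebraMap_smul fun _ _ => rfl
      haveI hA := flat_range_quotient hflatA (a - 1 - 1) (a - 1) a (by omega) (by omega)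
        fun M => hvan M (a - 1) (Or.inl (by omega))
      haveI : Module.Flat A ((R.X a) ⧸ LinearMap.range (R.d (a - 1) a).hom) := by
        let p := LinearMap.range (R.d (a - 1) a).hom
        have hp : LinearMap.range (RA.d (a - 1) a).hom = p.restrictScalars A := by
          ext x; rfl
        refine @Module.Flat.of_linearEquiv _ _ _ _ _ _ _ _ hA ((Submodule.quotEquivOfEq _ _ hp).trans
          (Submodule.Quotient.restrictScalarsEquiv A p)).symm
      exact WEtLib.flat_of_flat (A := A) _
    exact Module.Flat.of_linearEquiv (((cokernelIsCokernel (R.d (a - 1) a)).coconePointUniqueUpToIso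
      (R.opcyclesIsCokernel (a - 1) a (by simp))).symm ≪≫
        ModuleCat.cokernelIsoRangeQuotient (R.d (a - 1) a)).toLinearEquiv
  exact hasTorAmp_of_truncation hflat hRb (fun i hi => hiff R eR i (Or.inl hi)) eR

end Groth.Agent.TorAmpWE
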